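import Cfsg.Agent.Lib.Invol.AltEightSubgroups
import Cfsg.Agent.S4304
import Cfsg.Agent.Lib.Coprime.Core
import Mathlib.GroupTheory.Perm.Centralizer
import Mathlib.GroupTheory.Perm.Subgroup

/-!
# Groups of even permutations of eight points: odd normal subgroups, copies of `S₆`
-/

set_option autoImplicit false
set_option linter.all false

namespace CfsgLib.Invol.RadicalFour

open Equiv MulAction
open scoped _root_.Classical

/-- The permutations preserving a set of points. -/
def keep (O : Finset (Fin 8)) : Subgroup (Perm (Fin 8)) where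
  carrier := {σ | ∀ z, σ z ∈ O ↔ z ∈ O}
  one_mem' := fun z => Iff.rfl
  mul_mem' := fun {σ τ} hσ hτ z => (hσ (τ z)).trans (hτ z)
  inv_mem' := fun {σ} hσ z => by
    have := hσ (σ⁻¹ z)
    rw [Perm.inv_def, Equiv.apply_symm_apply] at this
    exact this.symm

theorem card_keep (O : Finset (Fin 8)) :
    Nat.card (keep O) = O.card.factorial * (8 - O.card).factorial := by
  have h : (Perm.subtypeCongrHom (fun z => z ∈ O)).range = keep O := by
    apply le_antisymm
    · rintro _ ⟨⟨a, b⟩, rfl⟩ z
      by_cases hz : z ∈ O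
      · simp [Perm.subtypeCongr.apply, hz]
      · simp only [Perm.subtypeCongrHom_apply, Perm.subtypeCongr.apply, dif_neg hz, hz, iff_false]
        exact (b ⟨z, hz⟩).2
    · intro σ hσ
      refine ⟨(σ.subtypePerm hσ, σ.subtypePerm fun z => (hσ z).not), Equiv.ext fun z => ?_⟩
      by_cases hz : z ∈ O <;> simp [Perm.subtypeCongr.apply, hz] <;> rfl
  rw [← h, ← Nat.card_congr (MonoidHom.ofInjective (Perm.subtypeCongrHom_injective _)).toEquiv,
    Nat.card_prod, Nat.card_perm, Nat.card_perm]
  simp [Fintype.card_subtype_compl, Fintype.card_coe]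

theorem swap_mem_keep {O : Finset (Fin 8)} {a b : Fin 8} (ha : a ∉ O) (hb : b ∉ O) :
    Equiv.swap a b ∈ keep O := by
  intro z
  rcases eq_or_ne z a with rfl | hza
  · simp [ha, hb]
  rcases eq_or_ne z b with rfl | hzb
  · simp [ha, hb]
  rw [Equiv.swap_apply_of_ne_of_ne hza hzb]

theorem exists_two_outside {O : Finset (Fin 8)} (h : O.card ≤ 6) :
    ∃ a b, a ∉ O ∧ b ∉ O ∧ a ≠ b := by
  obtain ⟨a, ha, b, hb, hab⟩ := Finset.one_lt_card.1 (show 1 < Oᶜ.card by
    rw [Finset.card_compl, Fintype.card_fin]; omega)
  exact ⟨a, b, Finset.mem_compl.1 ha, Finset.mem_compl.1 hb, hab⟩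

theorem no_fifteen (σ : Perm (Fin 6)) : orderOf σ ≠ 15 := by
  intro h
  have hl := σ.lcm_cycleType
  rw [h] at hl
  have hsum := σ.sum_cycleType
  have hle : σ.support.card ≤ 6 := by simpa using σ.support.card_le_univ
  have hall : ∀ c ∈ σ.cycleType, c ≤ 6 ∧ (c = 3 ∨ c = 5) := by
    intro c hc
    have h1 := Multiset.le_sum_of_mem hc
    have h2 := σ.two_le_of_mem_cycleType hc
    have hd : c ∣ 15 := hl ▸ Multiset.dvd_lcm hc
    have hc6 : c ≤ 6 := by omega
    refine ⟨hc6, ?_⟩
    interval_cases c <;> omega
  by_cases h3 : 3 ∈ σ.cycleType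
  · by_cases h5 : 5 ∈ σ.cycleType
    · obtain ⟨m, hm⟩ := Multiset.exists_cons_of_mem h3
      have h5m : 5 ∈ m := by
        rw [hm, Multiset.mem_cons] at h5
        exact h5.resolve_left (by norm_num)
      have := Multiset.le_sum_of_mem h5m
      rw [hm, Multiset.sum_cons] at hsum
      omega
    · have hdvd : σ.cycleType.lcm ∣ 3 := Multiset.lcm_dvd.2 fun c hc => by
        rcases (hall c hc).2 with rfl | rfl
        · rfl
        · exact absurd hc h5
      rw [hl] at hdvd
      norm_num at hdvd
  · have hdvd : σ.cycleType.lcm ∣ 5 := Multiset.lcm_dvd.2 fun c hc => by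
      rcases (hall c hc).2 with rfl | rfl
      · exact absurd hc h3
      · rfl
    rw [hl] at hdvd
    norm_num at hdvd

/-- A group of order ninety has an element of order fifteen. -/
theorem exists_fifteen {K : Type*} [Group K] [Finite K] (hK : Nat.card K = 90) :
    ∃ x : K, orderOf x = 15 := by
  haveI : Fact (Nat.Prime 5) := ⟨by norm_num⟩
  haveI : Fact (Nat.Prime 3) := ⟨by norm_num⟩
  obtain ⟨P⟩ : Nonempty (Sylow 5 K) := inferInstance
  have hP : Nat.card P = 5 := by
    rw [P.card_eq_multiplicity, hK, show (90 : ℕ) = 5 ^ 1 * 18 by norm_num,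
      Nat.factorization_mul (by norm_num) (by norm_num), Finsupp.add_apply,
      Nat.Prime.factorization_pow (by norm_num), Finsupp.single_eq_same,
      Nat.factorization_eq_zero_of_not_dvd (show ¬ 5 ∣ 18 by norm_num)]
    rfl
  set N := Subgroup.normalizer ((P : Subgroup K) : Set K) with hN
  have hidx : N.index = Nat.card (Sylow 5 K) := (P.card_eq_index_normalizer).symm
  have hmul := N.card_mul_index
  have h5N : 5 ∣ Nat.card N := hP ▸ Subgroup.card_dvd_of_le Subgroup.le_normalizer
  have hmod := card_sylow_modEq_one 5 K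
  rw [hidx, hK] at hmul
  have h3N : 3 ∣ Nat.card N := by
    obtain ⟨c, hc⟩ := h5N
    rw [hc] at hmul ⊢
    have hn : Nat.card (Sylow 5 K) ∣ 18 := ⟨c, by nlinarith⟩
    have hle := Nat.le_of_dvd (by norm_num) hn
    unfold Nat.ModEq at hmod
    generalize Nat.card (Sylow 5 K) = n at *
    interval_cases n <;> omega
  obtain ⟨y, hy⟩ := exists_prime_orderOf_dvd_card' 3 h3N
  haveI : IsCyclic P := isCyclic_of_prime_card hP
  obtain ⟨x, hx⟩ := exists_prime_orderOf_dvd_card' (G := (P : Subgroup K)) 5 (by rw [hP])
  have hyC : y ∈ (Subgroup.normalizerMonoidHom (P : Subgroup K)).ker := by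
    rw [MonoidHom.mem_ker, ← orderOf_eq_one_iff]
    refine Nat.eq_one_of_dvd_coprimes (a := 3) (b := 4) (by norm_num)
      (hy ▸ orderOf_map_dvd _ y) ?_
    refine dvd_trans (orderOf_dvd_natCard _) (dvd_of_eq ?_)
    rw [IsCyclic.card_mulAut, hP]
    rfl
  rw [Subgroup.normalizerMonoidHom_ker] at hyC
  have hyC' : (y : K) ∈ Subgroup.centralizer ((P : Subgroup K) : Set K) :=
    Subgroup.mem_subgroupOf.1 hyC
  have hc : Commute (y : K) x := (Subgroup.mem_centralizer_iff.1 hyC' x x.2).symm
  refine ⟨y * x, ?_⟩
  rw [hc.orderOf_mul_eq_mul_orderOf_of_coprime, Subgroup.orderOf_coe, Subgroup.orderOf_coe, hy, hx]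
  rw [Subgroup.orderOf_coe, Subgroup.orderOf_coe, hy, hx]
  norm_num

/-- A copy of `S₆` among the even permutations of eight points preserves six of them. -/
theorem range_eq_keep_inf {H : Type*} [Group H] [Finite H] (hH : Nat.card H = 720)
    (h15 : ∀ x : H, orderOf x ≠ 15) (ψ : H →* Perm (Fin 8)) (hψ : Function.Injective ψ)
    (hev : ∀ h, Perm.sign (ψ h) = 1) :
    ∃ O : Finset (Fin 8), O.card = 6 ∧ ψ.range = keep O ⊓ alternatingGroup (Fin 8) := by
  haveI : Fact (Nat.Prime 5) := ⟨by norm_num⟩
  obtain ⟨x, hx⟩ := exists_prime_orderOf_dvd_card' 5 (show 5 ∣ Nat.card H by rw [hH]; norm_num)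
  have hxψ : orderOf (ψ x) = 5 := by rw [orderOf_injective ψ hψ, hx]
  have hcyc : (ψ x).IsCycle := Perm.isCycle_of_prime_order' (by rw [hxψ]; norm_num)
    (by rw [Fintype.card_fin, hxψ]; norm_num)
  have hsupp : (ψ x).support.card = 5 := hcyc.orderOf.symm.trans hxψ
  obtain ⟨y, hy⟩ : ∃ y, (ψ x) y ≠ y := by
    obtain ⟨y, hy, -⟩ := hcyc
    exact ⟨y, hy⟩
  letI : MulAction H (Fin 8) := MulAction.compHom (Fin 8) ψ
  have hsmul : ∀ (h : H) z, h • z = ψ h z := fun _ _ => rfl
  set O : Finset (Fin 8) := (Set.toFinite (orbit H y)).toFinset with hOdef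
  have hmemO : ∀ z, z ∈ O ↔ z ∈ orbit H y := fun z => by simp [hOdef]
  have hOk : ψ.range ≤ keep O := by
    rintro _ ⟨h, rfl⟩ z
    rw [hmemO, hmemO, ← hsmul, ← orbit_eq_iff, orbit_smul, orbit_eq_iff]
  have hsub : (ψ x).support ⊆ O := fun z hz => by
    obtain ⟨i, hi⟩ := hcyc.exists_zpow_eq hy (Perm.mem_support.1 hz)
    exact (hmemO z).2 ⟨x ^ i, by show ψ (x ^ i) y = z; rw [map_zpow, hi]⟩
  have hle5 : 5 ≤ O.card := hsupp ▸ Finset.card_le_card hsub
  have hle8 : O.card ≤ 8 := by simpa using O.card_le_univ
  have hidx : (stabilizer H y).index = O.card := by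
    rw [index_stabilizer, ← Set.ncard_coe_finset]
    congr 1
    ext z
    simp [hmemO]
  have hmul := (stabilizer H y).card_mul_index
  rw [hidx, hH] at hmul
  have hR : Nat.card ψ.range = 720 := by
    rw [← hH]
    exact (Nat.card_congr (MonoidHom.ofInjective hψ).toEquiv).symm
  have heven : ψ.range ≤ alternatingGroup (Fin 8) := by
    rintro _ ⟨h, rfl⟩; exact Perm.mem_alternatingGroup.2 (hev h)
  have hodd : ∀ a b : Fin 8, a ≠ b → Equiv.swap a b ∉ alternatingGroup (Fin 8) := fun a b hab h => by
    rw [Perm.mem_alternatingGroup, Perm.sign_swap hab] at h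
    exact absurd h (by decide)
  have hck := card_keep O
  obtain ⟨d, hd⟩ : ∃ d, O.card = d := ⟨_, rfl⟩
  rw [hd] at hle5 hle8 hmul hck
  interval_cases d
  · exfalso
    obtain ⟨a, b, ha, hb, hab⟩ := exists_two_outside (O := O) (by omega)
    have he : ψ.range = keep O := Subgroup.eq_of_le_of_card_ge hOk (by
      rw [hR, hck]; norm_num [Nat.factorial])
    exact hodd a b hab (heven (he ▸ swap_mem_keep ha hb))
  · refine ⟨O, hd, Subgroup.eq_of_le_of_card_ge (le_inf hOk heven) ?_⟩
    rw [hR]
    obtain ⟨a, b, ha, hb, hab⟩ := exists_two_outside (O := O) hd.le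
    have hdvd : Nat.card ↥(keep O ⊓ alternatingGroup (Fin 8)) ∣ Nat.card (keep O) :=
      Subgroup.card_dvd_of_le inf_le_left
    have hne : Nat.card ↥(keep O ⊓ alternatingGroup (Fin 8)) ≠ Nat.card (keep O) := fun h =>
      hodd a b hab ((Subgroup.eq_of_le_of_card_ge inf_le_left h.ge).ge (swap_mem_keep ha hb)).2
    have h1440 : Nat.card (keep O) = 1440 := by rw [hck]; norm_num [Nat.factorial]
    obtain ⟨c, hc⟩ := hdvd
    rw [h1440] at hc hne
    rcases c with _ | _ | c
    · simp at hc
    · exact absurd (by omega) hne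
    · nlinarith
  · omega
  · exfalso
    obtain ⟨z, hz⟩ := exists_fifteen (K := stabilizer H y) (by omega)
    exact h15 z (by rw [Subgroup.orderOf_coe, hz])

/-- All copies of `S₆` in the alternating group of degree eight are conjugate. -/
theorem exists_conj {R R' : Subgroup (alternatingGroup (Fin 8))} (e : R ≃* Perm (Fin 6))
    (e' : R' ≃* Perm (Fin 6)) :
    ∃ g : alternatingGroup (Fin 8), ∀ r ∈ R, g * r * g⁻¹ ∈ R' := by
  have key : ∀ (S : Subgroup (alternatingGroup (Fin 8))) (f : S ≃* Perm (Fin 6)),
      ∃ O : Finset (Fin 8), O.card = 6 ∧ ∀ σ : alternatingGroup (Fin 8),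
        σ ∈ S ↔ (σ : Perm (Fin 8)) ∈ keep O := by
    intro S f
    obtain ⟨O, hO, hr⟩ := range_eq_keep_inf (H := Perm (Fin 6))
      (by rw [Nat.card_perm, Nat.card_fin]; rfl) no_fifteen
      ((alternatingGroup (Fin 8)).subtype.comp (S.subtype.comp f.symm.toMonoidHom))
      ((Subgroup.subtype_injective _).comp (S.subtype_injective.comp f.symm.injective))
      (fun h => Perm.mem_alternatingGroup.1 (S.subtype (f.symm h)).2)
    refine ⟨O, hO, fun σ => ⟨fun hσ => ?_, fun hσ => ?_⟩⟩
    · have h1 : (σ : Perm (Fin 8)) ∈ keep O ⊓ alternatingGroup (Fin 8) := hr ▸ ⟨f ⟨σ, hσ⟩, by simp⟩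
      exact h1.1
    · obtain ⟨h, hh⟩ := hr.ge (Subgroup.mem_inf.2 ⟨hσ, σ.2⟩)
      have : (f.symm h : alternatingGroup (Fin 8)) = σ := Subtype.ext hh
      exact this ▸ (f.symm h).2
  obtain ⟨O, hO, hR⟩ := key R e
  obtain ⟨O', hO', hR'⟩ := key R' e'
  let g₀ : Perm (Fin 8) := (Fintype.equivOfCardEq (α := {z // z ∈ O}) (β := {z // z ∈ O'})
    (by simp [hO, hO'])).extendSubtype
  have hg₀ : ∀ z, g₀ z ∈ O' ↔ z ∈ O := fun z => by
    by_cases hz : z ∈ O
    · simp [hz, g₀, Equiv.extendSubtype_mem _ z hz]
    · simp [hz, g₀, Equiv.extendSubtype_not_mem _ z hz]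
  obtain ⟨g, hgs, hg⟩ : ∃ g : Perm (Fin 8), Perm.sign g = 1 ∧ ∀ z, g z ∈ O' ↔ z ∈ O := by
    rcases Int.units_eq_one_or (Perm.sign g₀) with h | h
    · exact ⟨g₀, h, hg₀⟩
    · obtain ⟨a, b, ha, hb, hab⟩ := exists_two_outside (O := O) hO.le
      refine ⟨g₀ * Equiv.swap a b, by rw [map_mul, h, Perm.sign_swap hab]; rfl, fun z => ?_⟩
      rw [Perm.mul_apply, hg₀, swap_mem_keep ha hb z]
  refine ⟨⟨g, Perm.mem_alternatingGroup.2 hgs⟩, fun r hr => (hR' _).2 fun z => ?_⟩
  have hrz := (hR r).1 hr (g⁻¹ z)
  have hgz := hg (g⁻¹ z)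
  rw [Perm.inv_def, Equiv.apply_symm_apply] at hgz
  simp only [Subgroup.coe_mul, Subgroup.coe_inv, Perm.mul_apply]
  rw [hg, hrz]
  exact hgz.symm

/-- Odd groups whose order divides 315 are solvable. -/
theorem solvable_of_dvd_315 {K : Type*} [Group K] [Finite K] (h : Nat.card K ∣ 315) :
    Group.IsSolvable K := by
  have hmem : Nat.card K ∈ Nat.divisors 315 := Nat.mem_divisors.2 ⟨h, by norm_num⟩
  rw [show Nat.divisors 315 = {1, 3, 5, 7, 9, 15, 21, 35, 45, 63, 105, 315} from by decide +kernel] at hmem
  simp only [Finset.mem_insert, Finset.mem_singleton] at hmem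
  by_cases hlt : Nat.card K < 60
  · exact AltEightSubgroups.solvable_of_card_lt_sixty _ rfl hlt
  by_cases h63 : Nat.card K = 63
  · exact Cfsg.Agent.S0144.result 3 7 2 1 Nat.prime_three (by norm_num) (by rw [h63]; norm_num)
  haveI : Fact (Nat.Prime 7) := ⟨by norm_num⟩
  obtain ⟨d, hd, hK⟩ : ∃ d, (d = 3 ∨ d = 9) ∧ Nat.card K = 35 * d := by
    rcases (show Nat.card K = 105 ∨ Nat.card K = 315 by omega) with h | h
    · exact ⟨3, Or.inl rfl, h⟩
    · exact ⟨9, Or.inr rfl, h⟩
  obtain ⟨S⟩ : Nonempty (Sylow 7 K) := inferInstance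
  haveI hSn : (S : Subgroup K).Normal := Cfsg.Agent.S4304.small_normal hd hK S
  have hS7 : 7 ≤ Nat.card S := Nat.le_of_dvd Nat.card_pos
    (S.dvd_card_of_dvd_card ⟨5 * d, by rw [hK]; ring⟩)
  have hmul := (S : Subgroup K).card_mul_index
  haveI : Group.IsSolvable S := by
    haveI := S.2.isNilpotent
    infer_instance
  haveI : Group.IsSolvable (K ⧸ (S : Subgroup K)) :=
    AltEightSubgroups.solvable_of_card_lt_sixty _ rfl (by
      rw [← Subgroup.index_eq_card]
      rcases hd with rfl | rfl <;> nlinarith)
  exact solvable_of_ker_le_range (S : Subgroup K).subtype (QuotientGroup.mk' (S : Subgroup K))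
    (by rw [QuotientGroup.ker_mk', Subgroup.range_subtype])

/-- An element of odd prime order with a large centraliser is a three-cycle. -/
theorem cycleType_eq {σ : Perm (Fin 8)} {p : ℕ} (hp : p.Prime) (hp2 : p ≠ 2) (hσ : orderOf σ = p)
    (h : 60 ≤ Nat.card (Subgroup.centralizer {σ})) : σ.cycleType = {3} := by
  obtain ⟨n, hn⟩ := Perm.cycleType_prime_order (hσ ▸ hp)
  rw [hσ] at hn
  have hsum := σ.sum_cycleType
  have hle : σ.support.card ≤ 8 := by simpa using σ.support.card_le_univ
  rw [hn, Multiset.sum_replicate, smul_eq_mul] at hsum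
  have hcard := Perm.nat_card_centralizer σ
  rw [hn, Multiset.sum_replicate, smul_eq_mul, Fintype.card_fin, Multiset.prod_replicate] at hcard
  have h3 : 3 ≤ p := by have := hp.two_le; omega
  have hn2 : n < 2 := by nlinarith
  have hp8 : p ≤ 8 := by nlinarith
  rw [hcard] at h
  interval_cases p <;> norm_num at hp
  · interval_cases n
    · exact hn
    · exfalso; revert h; decide
  · obtain rfl : n = 0 := by omega
    exfalso; revert h; decide
  · obtain rfl : n = 0 := by omega
    exfalso; revert h; decide

/-- Even permutation groups of eight points with a nontrivial normal subgroup of odd order. -/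
theorem odd_radical {H : Type*} [Group H] [Finite H] (ψ : H →* Perm (Fin 8))
    (hψ : Function.Injective ψ) (hev : ∀ h, Perm.sign (ψ h) = 1) (hns : ¬ Group.IsSolvable H)
    (N : Subgroup H) [N.Normal] (hN : N ≠ ⊥) (hodd : (Nat.card N).Coprime 2) :
    Nat.card (Cfsg.pCore 3 H) = 3 ∧
      (Nonempty (H ⧸ Cfsg.pCore 3 H ≃* alternatingGroup (Fin 5)) ∨
        Nonempty (H ⧸ Cfsg.pCore 3 H ≃* Perm (Fin 5))) := by
  -- an abelian normal `p`-subgroup, `p` odd
  have hN315 : Nat.card N ∣ 315 := by
    have h1 := (N.card_subgroup_dvd_card).trans (AltEightSubgroups.card_dvd_alt ψ hψ hev)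
    rw [show (20160 : ℕ) = 2 ^ 6 * 315 by norm_num] at h1
    exact (hodd.pow_right 6).dvd_of_dvd_mul_left h1
  haveI := solvable_of_dvd_315 hN315
  obtain ⟨p, hp, hpN, P, hPn, hP1, hPp⟩ : ∃ p, p.Prime ∧ p ∣ Nat.card N ∧ ∃ P : Subgroup H,
      P.Normal ∧ P ≠ ⊥ ∧ IsPGroup p P := by
    haveI : Nontrivial N := (Subgroup.nontrivial_iff_ne_bot N).2 hN
    obtain ⟨k, hk1, hk2⟩ : ∃ k, derivedSeries N k ≠ ⊥ ∧ derivedSeries N (k + 1) = ⊥ := by
      obtain ⟨m, hm⟩ := (inferInstance : Group.IsSolvable N).solvable
      induction m with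
      | zero => rw [derivedSeries_zero] at hm; exact absurd hm top_ne_bot
      | succ m ih =>
        by_cases h : derivedSeries N m = ⊥
        · exact ih h
        · exact ⟨m, h, hm⟩
    set A := derivedSeries N k with hA
    haveI : A.Characteristic := derivedSeries_characteristic N k
    haveI : (A.map N.subtype).Normal := inferInstance
    set B := A.map N.subtype with hB
    have hcomm : ∀ a ∈ B, ∀ b ∈ B, a * b = b * a := by
      rintro _ ⟨a, ha, rfl⟩ _ ⟨b, hb, rfl⟩
      have := Subgroup.commutator_mem_commutator ha hb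
      rw [hA, ← derivedSeries_succ, hk2, Subgroup.mem_bot, commutatorElement_eq_one_iff_mul_comm] at this
      exact congrArg Subtype.val this
    have hBN : B ≤ N := Subgroup.map_subtype_le _
    have hB1 : Nat.card B ≠ 1 := fun h => hk1 (by
      rw [Subgroup.card_eq_one, hB, Subgroup.map_eq_bot_iff_of_injective _ N.subtype_injective] at h
      exact h)
    obtain ⟨p, hp, hpd⟩ := Nat.exists_prime_and_dvd hB1
    haveI : Fact p.Prime := ⟨hp⟩
    refine ⟨p, hp, hpd.trans (Subgroup.card_dvd_of_le hBN), ?_⟩
    obtain ⟨S⟩ : Nonempty (Sylow p B) := inferInstance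
    have hSn : (S : Subgroup B).Normal := ⟨fun a ha g => by
      rw [show g * a * g⁻¹ = a from by
        rw [show g * a = a * g from Subtype.ext (hcomm _ g.2 _ a.2), mul_inv_cancel_right]]
      exact ha⟩
    haveI := S.characteristic_of_normal hSn
    refine ⟨(S : Subgroup B).map B.subtype, inferInstance, ?_, S.2.map _⟩
    rw [Ne, Subgroup.map_eq_bot_iff_of_injective _ B.subtype_injective]
    exact S.ne_bot_of_dvd_card hpd
  haveI := hPn
  haveI : Fact p.Prime := ⟨hp⟩
  have hp2 : p ≠ 2 := fun h => by
    subst h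
    exact (Nat.Prime.coprime_iff_not_dvd Nat.prime_two).1 hodd.symm hpN
  obtain ⟨n, hn⟩ := IsPGroup.iff_card.1 hPp
  have hP315 : Nat.card P ∣ 315 := by
    have h1 := (P.card_subgroup_dvd_card).trans (AltEightSubgroups.card_dvd_alt ψ hψ hev)
    rw [show (20160 : ℕ) = 2 ^ 6 * 315 by norm_num] at h1
    refine (Nat.Coprime.dvd_of_dvd_mul_left ?_ h1)
    rw [hn]
    exact Nat.Coprime.pow _ _ ((Nat.coprime_primes hp Nat.prime_two).2 hp2)
  have hP9 : Nat.card P ≤ 9 := by
    rcases n with _ | n
    · rw [hn]; norm_num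
    have hp315 : p ∈ Nat.divisors 315 :=
      Nat.mem_divisors.2 ⟨(hn ▸ dvd_pow_self p (Nat.succ_ne_zero n)).trans hP315, by norm_num⟩
    rw [show Nat.divisors 315 = {1, 3, 5, 7, 9, 15, 21, 35, 45, 63, 105, 315} from by decide +kernel] at hp315
    simp only [Finset.mem_insert, Finset.mem_singleton] at hp315
    rw [hn] at hP315 ⊢
    rcases n with _ | _ | n
    · rcases hp315 with h | h | h | h | h | h | h | h | h | h | h | h <;> subst h <;> norm_num at hp <;> norm_num
    · rcases hp315 with h | h | h | h | h | h | h | h | h | h | h | h <;> subst h <;>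
        norm_num at hp <;> norm_num at hP315 <;> norm_num
    · have h3 : p ^ 3 ∣ 315 := (pow_dvd_pow p (by omega)).trans hP315
      rcases hp315 with h | h | h | h | h | h | h | h | h | h | h | h <;> subst h <;>
        norm_num at hp <;> norm_num at h3
  -- the automorphism group is solvable
  set C := (MulAut.conjNormal : H →* MulAut P).ker with hC
  have hCns : ¬ Group.IsSolvable C := by
    intro hs
    apply hns
    haveI : Group.IsSolvable (MulAut.conjNormal : H →* MulAut P).range := by
      refine AltEightSubgroups.solvable_of_card_lt_sixty _ rfl ?_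
      have hle := Subgroup.card_le_card_group (MulAut.conjNormal : H →* MulAut P).range
      have hcyc : Nat.card P ≤ 9 := hP9
      by_cases hprime : Nat.card P = p
      · haveI : IsCyclic P := isCyclic_of_prime_card hprime
        rw [IsCyclic.card_mulAut] at hle
        have := Nat.totient_le (Nat.card P)
        omega
      · have hn2 : n = 2 ∧ p = 3 := by
          have h3 : 3 ≤ p := by have := hp.two_le; omega
          rcases n with _ | _ | _ | n
          · exfalso
            exact hP1 (Subgroup.card_eq_one.1 (by rw [hn, pow_zero]))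
          · exact absurd (by rw [hn]; simp) hprime
          · refine ⟨rfl, ?_⟩
            have h9 : p * p ≤ 9 := by rw [hn] at hcyc; simpa [pow_two] using hcyc
            nlinarith
          · exfalso
            have : 3 ^ 3 ≤ p ^ (n + 1 + 1 + 1) :=
              le_trans (Nat.pow_le_pow_left h3 3) (Nat.pow_le_pow_right (by omega) (by omega))
            rw [← hn] at this
            omega
        obtain ⟨rfl, rfl⟩ := hn2
        obtain ⟨a, ha⟩ : ∃ a : P, a ≠ 1 := by
          haveI : Nontrivial P := (Subgroup.nontrivial_iff_ne_bot P).2 hP1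
          exact exists_ne 1
        -- two generators
        by_cases hcyc' : IsCyclic P
        · rw [IsCyclic.card_mulAut] at hle
          have := Nat.totient_le (Nat.card P)
          omega
        obtain ⟨b, hb⟩ : ∃ b : P, b ∉ Subgroup.zpowers a := by
          by_contra hc
          push Not at hc
          exact hcyc' ⟨⟨a, hc⟩⟩
        have hgen : Subgroup.closure ({a, b} : Set P) = ⊤ := by
          apply Subgroup.eq_top_of_card_eq
          set Z := Subgroup.closure ({a, b} : Set P)
          have h1 : Subgroup.zpowers a < Z := lt_of_le_not_ge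
            (Subgroup.zpowers_le.2 (Subgroup.subset_closure (Set.mem_insert a _)))
            fun h => hb (h (Subgroup.subset_closure (by simp)))
          have h2 : Subgroup.zpowers a ≠ ⊥ := by rwa [Ne, Subgroup.zpowers_eq_bot]
          have h3 := (Subgroup.one_lt_card_iff_ne_bot _).2 h2
          have h4 : Nat.card (Subgroup.zpowers a) < Nat.card Z := by
            rcases lt_or_ge (Nat.card (Subgroup.zpowers a)) (Nat.card Z) with h | h
            · exact h
            · exact absurd (Subgroup.eq_of_le_of_card_ge h1.le h) h1.ne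
          have h5 : Nat.card Z ∣ 9 := by
            have := Z.card_subgroup_dvd_card
            rwa [hn] at this
          have h6 : Nat.card (Subgroup.zpowers a) ∣ Nat.card Z := Subgroup.card_dvd_of_le h1.le
          rw [hn]
          have h7 : Nat.card Z = 1 ∨ Nat.card Z = 3 ∨ Nat.card Z = 9 := by
            have : Nat.card Z ∈ Nat.divisors 9 := Nat.mem_divisors.2 ⟨h5, by norm_num⟩
            rw [show Nat.divisors 9 = {1, 3, 9} from by decide] at this
            simpa using this
          rcases h7 with h | h | h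
          · omega
          · rw [h] at h6 h4
            rcases (Nat.dvd_prime Nat.prime_three).1 h6 with h8 | h8 <;> omega
          · norm_num [h]
        -- an automorphism is determined by the images, distinct and different from `1`
        have hb1 : b ≠ 1 := fun h => hb (h ▸ one_mem _)
        have hba : b ≠ a := fun h => hb (h ▸ Subgroup.mem_zpowers a)
        have hinj : Function.Injective fun φ : MulAut P =>
            ((⟨⟨φ a, (map_ne_one_iff φ φ.injective).2 ha⟩,
              ⟨φ b, (map_ne_one_iff φ φ.injective).2 hb1⟩,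
              fun h => hba (φ.injective (congrArg Subtype.val h))⟩) :
              (u : {z : P // z ≠ 1}) × {w : {z : P // z ≠ 1} // w ≠ u}) := by
          intro φ χ h
          have h1 : φ a = χ a := congrArg (fun q => (q.1 : P)) h
          have h2 : φ b = χ b := congrArg (fun q => (q.2.1 : P)) h
          refine MulEquiv.ext fun z => ?_
          have hz : z ∈ Subgroup.closure ({a, b} : Set P) := hgen ▸ Subgroup.mem_top z
          induction hz using Subgroup.closure_induction with
          | mem w hw => rcases hw with rfl | rfl <;> [exact h1; exact h2]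
          | one => simp
          | mul u v _ _ hu hv => rw [map_mul, map_mul, hu, hv]
          | inv u _ hu => rw [map_inv, map_inv, hu]
        have h8 : Nat.card {z : P // z ≠ 1} = 8 := by
          have h := Nat.card_congr (Equiv.optionSubtypeNe (1 : P))
          rw [Finite.card_option, hn] at h
          omega
        have h7 : ∀ u : {z : P // z ≠ 1}, Nat.card {w : {z : P // z ≠ 1} // w ≠ u} = 7 := fun u => by
          have h := Nat.card_congr (Equiv.optionSubtypeNe u)
          rw [Finite.card_option, h8] at h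
          omega
        have h56 := Nat.card_le_card_of_injective _ hinj
        haveI := Fintype.ofFinite {z : P // z ≠ 1}
        rw [Nat.card_sigma] at h56
        simp only [h7] at h56
        rw [Finset.sum_const, Finset.card_univ, ← Nat.card_eq_fintype_card, h8, smul_eq_mul] at h56
        omega
    haveI := hs
    exact solvable_of_ker_le_range C.subtype (MulAut.conjNormal : H →* MulAut P).rangeRestrict
      (by rw [MonoidHom.ker_rangeRestrict, Subgroup.range_subtype])
  have h60 := AltEightSubgroups.sixty_le hCns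
  have hcomm : ∀ c ∈ C, ∀ g ∈ P, c * g = g * c := by
    intro a ha m hm
    have := congrArg (fun φ : MulAut P => ((φ ⟨m, hm⟩ : P) : H)) (MonoidHom.mem_ker.1 ha)
    simp only [MulAut.conjNormal_apply, MulAut.one_apply] at this
    calc a * m = a * m * a⁻¹ * a := by group
      _ = m * a := by rw [this]
  have hthree : ∀ g ∈ P, orderOf g = p → p = 3 ∧ (ψ g).cycleType = {3} := by
    intro g hg hgo
    have hgψ : orderOf (ψ g) = p := by rw [orderOf_injective ψ hψ, hgo]
    have hcent : 60 ≤ Nat.card (Subgroup.centralizer {ψ g}) := by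
      refine h60.trans (Nat.card_le_card_of_injective
        (fun c : C => (⟨ψ c, Subgroup.mem_centralizer_singleton_iff.2 ?_⟩ :
          Subgroup.centralizer {ψ g}))
        fun a b h => Subtype.ext (hψ (congrArg Subtype.val h)))
      rw [← map_mul, ← map_mul, hcomm c c.2 g hg]
    have h3 := cycleType_eq hp hp2 hgψ hcent
    refine ⟨?_, h3⟩
    rw [← hgψ, ← Perm.lcm_cycleType, h3]
    simp
  obtain ⟨g', hg'⟩ := exists_prime_orderOf_dvd_card' (G := P) p (by
    rcases n with _ | n
    · exact absurd (Subgroup.card_eq_one.1 (by rw [hn, pow_zero])) hP1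
    · rw [hn]; exact dvd_pow_self p (Nat.succ_ne_zero n))
  have hgo : orderOf (g' : H) = p := (Subgroup.orderOf_coe g').trans hg'
  obtain ⟨rfl, hgc⟩ := hthree g' g'.2 hgo
  set σ := ψ (g' : H) with hσ
  have hσcyc : σ.IsCycle := Perm.card_cycleType_eq_one.1 (by rw [hgc]; rfl)
  set T := σ.support with hT
  have hTcard : T.card = 3 := by rw [hT, ← Perm.sum_cycleType, hgc]; rfl
  -- every element of `P` is a power of `g'`
  have hPg : P = Subgroup.zpowers (g' : H) := by
    symm
    refine Subgroup.eq_of_le_of_card_ge (Subgroup.zpowers_le.2 g'.2) ?_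
    rw [Nat.card_zpowers, hgo]
    by_contra hbig
    have hn2 : n = 2 := by
      rw [hn] at hP9 hbig
      rcases n with _ | _ | _ | n
      · simp at hbig
      · simp at hbig
      · rfl
      · have : 3 ^ 3 ≤ 3 ^ (n + 1 + 1 + 1) := Nat.pow_le_pow_right (by norm_num) (by omega)
        omega
    subst hn2
    obtain ⟨b, hb⟩ : ∃ b : P, b ∉ Subgroup.zpowers g' := by
      by_contra hc
      push Not at hc
      have := Nat.card_zpowers g'
      rw [(Subgroup.eq_top_iff' _).2 hc, Subgroup.card_top, hn, hg'] at this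
      norm_num at this
    letI : CommGroup P := IsPGroup.commGroupOfCardEqPrimeSq hn
    have hb3 : orderOf b = 3 := by
      have hbd : orderOf b ∣ 3 ^ 2 := hn ▸ orderOf_dvd_natCard b
      obtain ⟨i, hi, hi'⟩ := (Nat.dvd_prime_pow Nat.prime_three).1 hbd
      rcases i with _ | _ | _ | i
      · exact absurd (orderOf_eq_one_iff.1 (by simpa using hi') ▸ one_mem _) hb
      · simpa using hi'
      · exfalso
        have := (hthree ((b : H) ^ 3) (P.pow_mem b.2 3) (by
          rw [← Subgroup.coe_pow, Subgroup.orderOf_coe, orderOf_pow' _ (by norm_num), hi']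
          norm_num)).2
        -- a cycle of length nine does not exist
        have h9 : orderOf (ψ (b : H)) = 9 := by
          rw [orderOf_injective ψ hψ, Subgroup.orderOf_coe, hi']; norm_num
        have hl := (ψ (b : H)).lcm_cycleType
        rw [h9] at hl
        have hdvd : (ψ (b : H)).cycleType.lcm ∣ 3 := Multiset.lcm_dvd.2 fun c hc => by
          have hc9 : c ∣ 3 ^ 2 := by norm_num; exact hl ▸ Multiset.dvd_lcm hc
          obtain ⟨j, hj, rfl⟩ := (Nat.dvd_prime_pow Nat.prime_three).1 hc9
          rcases j with _ | _ | _ | j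
          · norm_num
          · norm_num
          · have h1 := Multiset.le_sum_of_mem hc
            rw [Perm.sum_cycleType] at h1
            have h2 : (ψ (b : H)).support.card ≤ 8 := by simpa using (ψ (b : H)).support.card_le_univ
            norm_num at h1
            omega
          · omega
        rw [hl] at hdvd
        norm_num at hdvd
      · omega
    set τ := ψ (b : H) with hτ
    have hτc : τ.cycleType = {3} := (hthree b b.2 (by rw [Subgroup.orderOf_coe, hb3])).2
    have hτcyc : τ.IsCycle := Perm.card_cycleType_eq_one.1 (by rw [hτc]; rfl)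
    have hcom : Commute σ τ := by
      show ψ (g' : H) * ψ (b : H) = ψ (b : H) * ψ (g' : H)
      rw [← map_mul, ← map_mul, ← Subgroup.coe_mul, ← Subgroup.coe_mul, mul_comm]
    have hprod : orderOf ((g' * b : P) : H) = 3 := by
      rw [Subgroup.orderOf_coe]
      refine orderOf_eq_prime ?_ fun h => hb ?_
      · rw [mul_pow]
        nth_rewrite 1 [← hg']
        nth_rewrite 1 [← hb3]
        rw [pow_orderOf_eq_one, pow_orderOf_eq_one, one_mul]
      · rw [← inv_mul_cancel_left g' b, h, mul_one]; exact inv_mem (Subgroup.mem_zpowers _)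
    have hprodc := (hthree _ (g' * b).2 hprod).2
    rw [Subgroup.coe_mul, map_mul] at hprodc
    by_cases hd : σ.Disjoint τ
    · rw [hd.cycleType_mul, hgc, hτc] at hprodc
      exact absurd (congrArg Multiset.card hprodc) (by simp)
    · -- commuting three-cycles meeting each other have the same support, hence are powers
      obtain ⟨i, hi⟩ : ∃ i : ℤ, τ = σ ^ i := by
        have hsupp : ∀ z, z ∈ τ.support → z ∈ σ.support := by
          obtain ⟨w, hw1, hw2⟩ : ∃ w, σ w ≠ w ∧ τ w ≠ w := by
            by_contra hc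
            push Not at hc
            exact hd fun w => (em (σ w = w)).imp_right (hc w)
          intro z hz
          obtain ⟨j, rfl⟩ := hτcyc.exists_zpow_eq hw2 (Perm.mem_support.1 hz)
          rw [Perm.mem_support]
          intro hfix
          apply hw1
          have h1 := congrArg (fun π : Perm (Fin 8) => π w) (hcom.zpow_right j).eq
          simp only [Perm.mul_apply] at h1
          rw [hfix] at h1
          exact ((τ ^ j).injective h1.symm)
        have hse : τ.support = σ.support := Finset.eq_of_subset_of_card_le hsupp (by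
          rw [← Perm.sum_cycleType, ← Perm.sum_cycleType, hgc, hτc])
        obtain ⟨i, hi⟩ := hσcyc.commute_iff.1 hcom.symm |>.2
        refine ⟨i, Equiv.ext fun z => ?_⟩
        by_cases hz : z ∈ σ.support
        · have := congrArg (fun π : Perm (Fin 8) => π z) hi
          simpa [Perm.ofSubtype_apply_of_mem _ hz] using this.symm
        · rw [Perm.notMem_support.1 (hse ▸ hz),
            Perm.zpow_apply_eq_self_of_apply_eq_self (Perm.notMem_support.1 hz)]
      apply hb
      refine ⟨i, Subtype.ext (hψ ?_)⟩
      rw [Subgroup.coe_zpow, map_zpow, ← hi]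
  -- the action on the five other points
  have hTinv : ∀ (h : H) z, ψ h z ∈ T ↔ z ∈ T := by
    intro h z
    have hh : h * g' * h⁻¹ ∈ P := hPn.conj_mem _ g'.2 h
    replace hh := hPg.le hh
    obtain ⟨i, hi⟩ := hh
    have e : ψ h * σ * (ψ h)⁻¹ = σ ^ i := by
      rw [hσ, ← map_inv, ← map_mul, ← map_mul, ← map_zpow]; exact congrArg ψ hi.symm
    have hsub : (ψ h * σ * (ψ h)⁻¹).support ⊆ T := e ▸ Perm.support_zpow_le σ i
    rw [Perm.support_conj] at hsub
    have heq : T.map (ψ h).toEmbedding = T := Finset.eq_of_subset_of_card_le hsub (by rw [Finset.card_map])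
    constructor
    · intro hz
      rw [← heq, Finset.mem_map] at hz
      obtain ⟨w, hw, hwz⟩ := hz
      exact (ψ h).injective hwz ▸ hw
    · intro hz
      rw [← heq]
      exact Finset.mem_map.2 ⟨z, hz, rfl⟩
  let π : H →* Perm {z // z ∉ T} :=
    { toFun := fun h => (ψ h).subtypePerm (fun z => (hTinv h z).not)
      map_one' := by ext z; simp
      map_mul' := fun a b => Equiv.ext fun z => Subtype.ext (by simp only [map_mul, Subgroup.coe_mul, Perm.mul_apply, Perm.subtypePerm_apply]) }
  have hker : π.ker = P := by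
    refine le_antisymm ?_ ?_
    · intro h hh
      let r : Perm {z // z ∈ T} := (ψ h).subtypePerm fun z => hTinv h z
      have hfix : ∀ z, z ∉ T → ψ h z = z := fun z hz =>
        congrArg Subtype.val (Equiv.congr_fun (MonoidHom.mem_ker.1 hh) ⟨z, hz⟩)
      have hrs : Perm.sign r = 1 := by
        rw [← hev h]
        convert Perm.sign_subtypePerm (ψ h) (fun z => hTinv h z) fun z hz => by
          by_contra hzT; exact hz (hfix z hzT)
      -- the even permutations of three points
      have hA3 : Nat.card (alternatingGroup {z // z ∈ T}) = 3 := by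
        haveI : Nontrivial {z // z ∈ T} := Fintype.one_lt_card_iff_nontrivial.1 (by simp [hTcard])
        have h2 := (alternatingGroup {z // z ∈ T}).card_mul_index
        rw [alternatingGroup.index_eq_two, Nat.card_perm, Nat.card_eq_fintype_card (α := {z // z ∈ T}),
          Fintype.card_coe, hTcard] at h2
        rw [show Nat.factorial 3 = 6 from rfl] at h2
        omega
      have hgmem : σ.subtypePerm (fun z => hTinv g' z) ∈ alternatingGroup {z // z ∈ T} := by
        rw [Perm.mem_alternatingGroup, ← hev (g' : H)]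
        convert Perm.sign_subtypePerm σ (fun z => hTinv g' z) fun z hz => Perm.mem_support.2 hz
      have hgne : (⟨_, hgmem⟩ : alternatingGroup {z // z ∈ T}) ≠ 1 := by
        intro he
        obtain ⟨z, hz⟩ := Finset.card_pos.1 (hTcard.symm ▸ (by norm_num : 0 < 3))
        exact Perm.mem_support.1 hz (congrArg Subtype.val (Equiv.congr_fun (congrArg Subtype.val he) ⟨z, hz⟩))
      have hzp := mem_zpowers_of_prime_card (g' := (⟨r, Perm.mem_alternatingGroup.2 hrs⟩ : alternatingGroup {z // z ∈ T}))
        hA3 hgne
      obtain ⟨i, hi⟩ := hzp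
      rw [hPg]
      refine ⟨i, hψ (Equiv.ext fun z => ?_)⟩
      rw [map_zpow]
      by_cases hz : z ∈ T
      · have := congrArg Subtype.val (Equiv.congr_fun (congrArg Subtype.val hi) ⟨z, hz⟩)
        simpa [r, hσ, Perm.subtypePerm_apply] using this
      · rw [hfix z hz, Perm.zpow_apply_eq_self_of_apply_eq_self (Perm.notMem_support.1 hz)]
    · rw [hPg, Subgroup.zpowers_le, MonoidHom.mem_ker]
      refine Equiv.ext fun z => Subtype.ext ?_
      exact Perm.notMem_support.1 z.2
  let e5 : {z // z ∉ T} ≃ Fin 5 := Fintype.equivFinOfCardEq (by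
    rw [Fintype.card_subtype_compl, Fintype.card_coe, hTcard, Fintype.card_fin])
  let f : H →* Perm (Fin 5) := e5.permCongrHom.toMonoidHom.comp π
  have hfker : f.ker = P := by
    rw [← hker]
    ext h
    simp only [MonoidHom.mem_ker, f, MonoidHom.comp_apply, MulEquiv.coe_toMonoidHom, map_eq_one_iff _ e5.permCongrHom.injective]
  have hP3 : Nat.card P = 3 := by rw [hPg, Nat.card_zpowers, hgo]
  set R := f.range with hR
  have hRns : ¬ Group.IsSolvable R := fun hs => hns (by
    haveI := hs
    haveI : Group.IsSolvable P := AltEightSubgroups.solvable_of_card_lt_sixty _ rfl (by omega)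
    exact solvable_of_ker_le_range P.subtype f.rangeRestrict
      (by rw [MonoidHom.ker_rangeRestrict, hfker, Subgroup.range_subtype]))
  have h60R := AltEightSubgroups.sixty_le hRns
  have hA5 : alternatingGroup (Fin 5) ≤ R := by
    have h120 : Nat.card R ∣ 120 := by
      have := R.card_subgroup_dvd_card
      rwa [Nat.card_perm, Nat.card_fin] at this
    haveI : IsSimpleGroup (alternatingGroup (Fin 5)) := alternatingGroup.isSimpleGroup (by simp)
    have hA : Nat.card (alternatingGroup (Fin 5)) = 60 := by
      have h2 := (alternatingGroup (Fin 5)).card_mul_index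
      rw [alternatingGroup.index_eq_two, Nat.card_perm, Nat.card_fin] at h2
      rw [show Nat.factorial 5 = 120 from rfl] at h2
      omega
    by_contra hle
    have hne : R.subgroupOf (alternatingGroup (Fin 5)) ≠ ⊤ := fun h => hle (Subgroup.subgroupOf_eq_top.1 h)
    have hdv := AltEightSubgroups.card_dvd_factorial hne
    have hrel : (R.subgroupOf (alternatingGroup (Fin 5))).index ≤ R.index := by
      show R.relIndex (alternatingGroup (Fin 5)) ≤ R.index
      rw [← Subgroup.relIndex_top_right R]
      exact Subgroup.relIndex_le_of_le_right le_top (by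
        rw [Subgroup.relIndex_top_right]; exact Subgroup.index_ne_zero_of_finite)
    have hmi := R.card_mul_index
    rw [Nat.card_perm, Nat.card_fin] at hmi
    rw [show Nat.factorial 5 = 120 from rfl] at hmi
    have h2 : R.index ≤ 2 := by nlinarith
    have := Nat.le_of_dvd (Nat.factorial_pos _) hdv
    have := Nat.factorial_le (hrel.trans h2)
    rw [hA] at *
    norm_num at this
    omega
  -- the three-core
  have hcore : Cfsg.pCore 3 H = P := by
    refine le_antisymm ?_ (le_sSup ⟨hPn, hPp⟩)
    haveI : (Cfsg.pCore 3 H).Normal := CfsgLib.Coprime.pCore_normal' 3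
    set M := (Cfsg.pCore 3 H).map f with hM
    have hMp : IsPGroup 3 M := (CfsgLib.Coprime.pCore_isPGroup 3).map f
    haveI : IsSimpleGroup (alternatingGroup (Fin 5)) := alternatingGroup.isSimpleGroup (by simp)
    have hMA : M ≤ alternatingGroup (Fin 5) := by
      intro m hm
      obtain ⟨k, hk⟩ := hMp ⟨m, hm⟩
      have hk' : m ^ (3 ^ k) = 1 := congrArg Subtype.val hk
      rw [Perm.mem_alternatingGroup]
      have := congrArg Perm.sign hk'
      rw [map_pow, map_one] at this
      rcases Int.units_eq_one_or (Perm.sign m) with h | h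
      · exact h
      · rw [h, Odd.neg_one_pow (Odd.pow (by decide))] at this
        exact absurd this (by decide)
    have hMn : (M.subgroupOf (alternatingGroup (Fin 5))).Normal := ⟨fun m hm a => by
      obtain ⟨h, hh⟩ := hA5 a.2
      obtain ⟨c, hc, hcm⟩ := Subgroup.mem_subgroupOf.1 hm
      refine Subgroup.mem_subgroupOf.2 ⟨h * c * h⁻¹,
        (inferInstance : (Cfsg.pCore 3 H).Normal).conj_mem c hc h, ?_⟩
      rw [map_mul, map_mul, map_inv, hh, hcm]; rfl⟩
    rcases hMn.eq_bot_or_eq_top with h | h
    · rw [← hfker]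
      intro c hc
      rw [MonoidHom.mem_ker]
      have : (⟨f c, hMA ⟨c, hc, rfl⟩⟩ : alternatingGroup (Fin 5)) ∈ M.subgroupOf (alternatingGroup (Fin 5)) :=
        Subgroup.mem_subgroupOf.2 ⟨c, hc, rfl⟩
      rw [h, Subgroup.mem_bot] at this
      exact congrArg Subtype.val this
    · exfalso
      have h1 : IsPGroup 3 (alternatingGroup (Fin 5)) := hMp.to_le (Subgroup.subgroupOf_eq_top.1 h)
      haveI := h1.isNilpotent
      have : Group.IsSolvable (alternatingGroup (Fin 5)) := inferInstance
      exact hRns (by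
        haveI : Group.IsSolvable ((alternatingGroup (Fin 5)).subgroupOf R) :=
          solvable_of_solvable_injective (f := (Subgroup.subgroupOfEquivOfLe hA5).toMonoidHom)
            (Subgroup.subgroupOfEquivOfLe hA5).injective
        haveI : ((alternatingGroup (Fin 5)).subgroupOf R).Normal := Subgroup.Normal.subgroupOf alternatingGroup.normal R
        haveI : Group.IsSolvable (R ⧸ (alternatingGroup (Fin 5)).subgroupOf R) :=
          AltEightSubgroups.solvable_of_card_lt_sixty _ rfl (by
            rw [← Subgroup.index_eq_card]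
            have := Subgroup.relIndex_mul_index hA5
            rw [alternatingGroup.index_eq_two] at this
            exact lt_of_le_of_lt (Nat.le_of_dvd (by norm_num) (Dvd.intro _ this)) (by norm_num))
        exact solvable_of_ker_le_range ((alternatingGroup (Fin 5)).subgroupOf R).subtype
          (QuotientGroup.mk' ((alternatingGroup (Fin 5)).subgroupOf R)) (by rw [QuotientGroup.ker_mk', Subgroup.range_subtype]))
  refine ⟨by rw [hcore, hP3], ?_⟩
  let q : H ⧸ Cfsg.pCore 3 H ≃* R :=
    (QuotientGroup.quotientMulEquivOfEq (hcore.trans hfker.symm)).trans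
      (QuotientGroup.quotientKerEquivRange f)
  rcases AltEightSubgroups.eq_top_or_alt (by norm_num) hA5 with h | h
  · exact Or.inl ⟨q.trans (MulEquiv.subgroupCongr h)⟩
  · exact Or.inr ⟨q.trans ((MulEquiv.subgroupCongr h).trans Subgroup.topEquiv)⟩

end CfsgLib.Invol.RadicalFour
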