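import Cfsg.Agent.S0247
import Cfsg.Agent.Lib.Invol.GLFourTwo
import Cfsg.Agent.Lib.Invol.PConstrained
import Cfsg.Agent.Lib.Coprime.PGroupFrattini
import Cfsg.Agent.Lib.Invol.RadicalFourQuotient.Perm
import Cfsg.Prelude.Def_CaseTheorems

/-!
# A five-dimensional elementary section over three symplectic transvections
-/

set_option autoImplicit false
set_option linter.all false

namespace CfsgLib.Invol.RadicalFour

open Matrix
open scoped _root_.Classical
open scoped commutatorElement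

abbrev F₂ := ZMod 2
abbrev I₄ := Fin 2 ⊕ Fin 2

/-- `[[1, S], [0, 1]]`. -/
def uni (S : Matrix (Fin 2) (Fin 2) F₂) : Matrix I₄ I₄ F₂ := fromBlocks 1 S 0 1

/-- Three symmetric matrices of rank one. -/
def sv : Fin 3 → Matrix (Fin 2) (Fin 2) F₂ := ![!![1, 0; 0, 0], !![0, 0; 0, 1], !![1, 1; 1, 1]]

theorem uni_zero : uni 0 = 1 := fromBlocks_one

theorem uni_mul (S T : Matrix (Fin 2) (Fin 2) F₂) : uni S * uni T = uni (S + T) := by
  simp [uni, fromBlocks_multiply, add_comm]

theorem uni_inj {S T : Matrix (Fin 2) (Fin 2) F₂} (h : uni S = uni T) : S = T :=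
  (fromBlocks_inj.1 h).2.1

theorem uni_mulVec_inr (S : Matrix (Fin 2) (Fin 2) F₂) (v : I₄ → F₂) (k : Fin 2) :
    (uni S *ᵥ v) (Sum.inr k) = v (Sum.inr k) := by
  simp [uni, fromBlocks_mulVec]

theorem uni_mulVec_inl (S : Matrix (Fin 2) (Fin 2) F₂) (v : I₄ → F₂) (k : Fin 2) :
    (uni S *ᵥ v) (Sum.inl k) = v (Sum.inl k) + (S *ᵥ (v ∘ Sum.inr)) k := by
  simp only [uni, fromBlocks_mulVec, Sum.elim_inl, Pi.add_apply, one_mulVec, Function.comp_apply]

theorem sv_cross : ∀ i j : Fin 3, i ≠ j → ∀ q r : Fin 2 → F₂, sv j *ᵥ q = sv i *ᵥ r →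
    sv i *ᵥ r = 0 := by decide +kernel

theorem sv_two : ∀ i j : Fin 3, i ≠ j → ∀ q : Fin 2 → F₂, sv i *ᵥ q = 0 → sv j *ᵥ q = 0 → q = 0 := by
  decide +kernel

theorem sv_independent : ∀ e e' : Fin 2 × Fin 2 × Fin 2,
    (e.1 : ℕ) • sv 0 + (e.2.1 : ℕ) • sv 1 + (e.2.2 : ℕ) • sv 2 =
      (e'.1 : ℕ) • sv 0 + (e'.2.1 : ℕ) • sv 1 + (e'.2.2 : ℕ) • sv 2 → e = e' := by decide +kernel

variable {X : Type*} [Group X] [Finite X]

/-- The three transvections force a section of order 32. -/
theorem false_of_transvections (h4 : Cfsg.SectionalPRankLE 2 4 X) (U : Subgroup X) [U.Normal]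
    (f : X → I₄ → F₂) (hf : ∀ a ∈ U, ∀ b ∈ U, f (a * b) = f a + f b)
    (hsurj : ∀ v, ∃ u ∈ U, f u = v) (M : X →* Matrix I₄ I₄ F₂) (hker : ∀ x, M x = 1 ↔ x ∈ U)
    (hconj : ∀ x, ∀ u ∈ U, f (x * u * x⁻¹) = M x *ᵥ f u)
    (hT : ∀ i, ∃ x, M x = uni (sv i)) : False := by
  have two : ∀ v : I₄ → F₂, v + v = 0 := fun v => funext fun _ => CharTwo.add_self_eq_zero _
  have hf1 : f 1 = 0 := by
    have := hf 1 U.one_mem 1 U.one_mem
    rwa [one_mul, two] at this
  have hfinv : ∀ a ∈ U, f a⁻¹ = f a := by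
    intro a ha
    have := hf a⁻¹ (inv_mem ha) a ha
    rw [inv_mul_cancel, hf1] at this
    calc f a⁻¹ = f a⁻¹ + (f a + f a) := by rw [two, add_zero]
      _ = f a := by rw [← add_assoc, ← this, zero_add]
  choose x hx using hT
  have hMinv : ∀ (y : X) S, M y = uni S → M y⁻¹ = uni S := by
    intro y S hy
    have h1 : M y⁻¹ * M y = 1 := by rw [← map_mul, inv_mul_cancel, map_one]
    calc M y⁻¹ = M y⁻¹ * (uni S * uni S) := by
          rw [uni_mul, show S + S = 0 from Matrix.ext fun _ _ => CharTwo.add_self_eq_zero _, uni_zero, mul_one]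
      _ = uni S := by rw [← mul_assoc, ← hy, h1, one_mul]
  have hsq : ∀ i, x i * x i ∈ U := fun i => (hker _).1 (by
    rw [map_mul, hx, uni_mul, show sv i + sv i = 0 from Matrix.ext fun _ _ => CharTwo.add_self_eq_zero _,
      uni_zero])
  have hd : ∀ i j, x j * x i * (x j)⁻¹ * (x i)⁻¹ ∈ U := fun i j => (hker _).1 (by
    rw [map_mul, map_mul, map_mul, hMinv _ _ (hx i), hMinv _ _ (hx j), hx, hx, uni_mul, uni_mul, uni_mul,
      show sv j + sv i + sv j + sv i = (sv j + sv j) + (sv i + sv i) by abel,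
      show sv i + sv i = 0 from Matrix.ext fun _ _ => CharTwo.add_self_eq_zero _,
      show sv j + sv j = 0 from Matrix.ext fun _ _ => CharTwo.add_self_eq_zero _, add_zero, uni_zero])
  set q : X → Fin 2 → F₂ := fun u => f u ∘ Sum.inr with hq
  -- the squares are fixed by their roots
  have hfix : ∀ i, sv i *ᵥ q (x i * x i) = 0 := by
    intro i
    have h := hconj (x i) _ (hsq i)
    rw [show x i * (x i * x i) * (x i)⁻¹ = x i * x i by group, hx] at h
    funext k
    have := congrFun h (Sum.inl k)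
    rw [uni_mulVec_inl] at this
    exact add_eq_left.1 this.symm
  -- the identity from conjugating a square
  have key : ∀ i j, sv j *ᵥ q (x i * x i) = sv i *ᵥ q (x j * x i * (x j)⁻¹ * (x i)⁻¹) := by
    intro i j
    set d := x j * x i * (x j)⁻¹ * (x i)⁻¹ with hdd
    have hdU : d ∈ U := hd i j
    have e : x j * (x i * x i) * (x j)⁻¹ = d * (x i * d * (x i)⁻¹) * (x i * x i) := by
      rw [hdd]; group
    have hm : x i * d * (x i)⁻¹ ∈ U := (inferInstance : U.Normal).conj_mem d hdU _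
    have h := hconj (x j) _ (hsq i)
    rw [e, hf _ (mul_mem hdU hm) _ (hsq i), hf _ hdU _ hm, hconj _ d hdU, hx, hx] at h
    funext k
    have := congrFun h (Sum.inl k)
    simp only [Pi.add_apply, uni_mulVec_inl] at this
    rw [← add_assoc, CharTwo.add_self_eq_zero, zero_add, add_comm _ (f (x i * x i) _)] at this
    exact (add_left_cancel this).symm
  have hd0 : ∀ i j, i ≠ j → sv i *ᵥ q (x j * x i * (x j)⁻¹ * (x i)⁻¹) = 0 := fun i j hij =>
    sv_cross i j hij _ _ (key i j)
  have hqd : ∀ i j, q (x j * x i * (x j)⁻¹ * (x i)⁻¹) = 0 := by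
    intro i j
    rcases eq_or_ne i j with rfl | hij
    · show f _ ∘ Sum.inr = 0
      rw [show x i * x i * (x i)⁻¹ * (x i)⁻¹ = 1 by group, hf1]; rfl
    · refine sv_two i j hij _ (hd0 i j hij) ?_
      have := hd0 j i hij.symm
      rwa [show x i * x j * (x i)⁻¹ * (x j)⁻¹ = (x j * x i * (x j)⁻¹ * (x i)⁻¹)⁻¹ by group,
        show q (x j * x i * (x j)⁻¹ * (x i)⁻¹)⁻¹ = q (x j * x i * (x j)⁻¹ * (x i)⁻¹) from
          congrArg (· ∘ Sum.inr) (hfinv _ (hd i j))] at this
  have hqsq : ∀ i, q (x i * x i) = 0 := by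
    intro i
    obtain ⟨j, hj⟩ : ∃ j : Fin 3, i ≠ j := (exists_ne i).imp fun _ => Ne.symm
    refine sv_two i j hj _ (hfix i) ?_
    rw [key, hd0 i j hj]
  -- the subgroup and its normal subgroup
  let N : Subgroup X :=
    { carrier := {u | u ∈ U ∧ q u = 0}
      one_mem' := ⟨U.one_mem, by show f 1 ∘ Sum.inr = 0; rw [hf1]; rfl⟩
      mul_mem' := fun {a b} ha hb => ⟨mul_mem ha.1 hb.1, funext fun k => by
        show f (a * b) (Sum.inr k) = 0
        rw [hf a ha.1 b hb.1, Pi.add_apply, show f a (Sum.inr k) = 0 from congrFun ha.2 k,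
          show f b (Sum.inr k) = 0 from congrFun hb.2 k, add_zero]⟩
      inv_mem' := fun {a} ha => ⟨inv_mem ha.1, by show f a⁻¹ ∘ Sum.inr = 0; rw [hfinv a ha.1]; exact ha.2⟩ }
  let gens : Set X := (U : Set X) ∪ Set.range x
  let P : Subgroup X := Subgroup.closure gens
  have hxP : ∀ i, x i ∈ P := fun i => Subgroup.subset_closure (Or.inr ⟨i, rfl⟩)
  have hP : ∀ p ∈ P, ∃ S, M p = uni S := by
    intro p hp
    induction hp using Subgroup.closure_induction with
    | mem w hw =>
      rcases hw with hw | ⟨i, rfl⟩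
      · exact ⟨0, by rw [(hker w).2 hw, uni_zero]⟩
      · exact ⟨_, hx i⟩
    | one => exact ⟨0, by rw [map_one, uni_zero]⟩
    | mul a b _ _ ha hb =>
      obtain ⟨S, hS⟩ := ha; obtain ⟨T, hT⟩ := hb
      exact ⟨S + T, by rw [map_mul, hS, hT, uni_mul]⟩
    | inv a _ ha => obtain ⟨S, hS⟩ := ha; exact ⟨S, hMinv a S hS⟩
  have hqconj : ∀ p ∈ P, ∀ u ∈ U, q (p * u * p⁻¹) = q u := by
    intro p hp u hu
    obtain ⟨S, hS⟩ := hP p hp
    funext k
    show f (p * u * p⁻¹) (Sum.inr k) = f u (Sum.inr k)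
    rw [hconj p u hu, hS, uni_mulVec_inr]
  haveI : (N.subgroupOf P).Normal := ⟨fun a ha p => by
    rw [Subgroup.mem_subgroupOf] at ha ⊢
    exact ⟨(inferInstance : U.Normal).conj_mem _ ha.1 _, (hqconj p p.2 a ha.1).trans ha.2⟩⟩
  let π := QuotientGroup.mk' (N.subgroupOf P)
  have hmem : ∀ p : P, (p : X) ∈ N → π p = 1 := fun p hp =>
    (QuotientGroup.eq_one_iff p).2 (Subgroup.mem_subgroupOf.2 hp)
  let G : Set (↥P ⧸ N.subgroupOf P) := π '' ((↑) ⁻¹' gens)
  have hGtop : Subgroup.closure G = ⊤ := by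
    rw [← MonoidHom.map_closure, Subgroup.closure_closure_coe_preimage, ← MonoidHom.range_eq_map,
      QuotientGroup.range_mk']
  have hGcomm : ∀ a ∈ G, ∀ b ∈ G, Commute a b := by
    rintro _ ⟨a, ha, rfl⟩ _ ⟨b, hb, rfl⟩
    show π a * π b = π b * π a
    rw [← commutatorElement_eq_one_iff_mul_comm, ← map_commutatorElement]
    refine hmem _ ?_
    show (a : X) * b * (a : X)⁻¹ * (b : X)⁻¹ ∈ N
    have hub : ∀ u ∈ U, ∀ w ∈ P, u * w * u⁻¹ * w⁻¹ ∈ N := by
      intro u hu w hw
      have h1 : w * u⁻¹ * w⁻¹ ∈ U := (inferInstance : U.Normal).conj_mem _ (inv_mem hu) _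
      rw [show u * w * u⁻¹ * w⁻¹ = u * (w * u⁻¹ * w⁻¹) by group]
      refine ⟨mul_mem hu h1, funext fun k => ?_⟩
      show f _ (Sum.inr k) = 0
      rw [hf _ hu _ h1, Pi.add_apply, show f (w * u⁻¹ * w⁻¹) (Sum.inr k) = f u⁻¹ (Sum.inr k) from
        congrFun (hqconj w hw _ (inv_mem hu)) k, hfinv u hu, CharTwo.add_self_eq_zero]
    rcases ha with ha | ⟨i, hi⟩
    · exact hub _ ha _ b.2
    · rcases hb with hb | ⟨j, hj⟩
      · rw [show (a : X) * b * (a : X)⁻¹ * (b : X)⁻¹ = ((b : X) * a * (b : X)⁻¹ * (a : X)⁻¹)⁻¹ by group]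
        exact inv_mem (hub _ hb _ a.2)
      · rw [← hi, ← hj]
        exact ⟨hd j i, hqd j i⟩
  have hcomm : ∀ a b : ↥P ⧸ N.subgroupOf P, Commute a b := by
    have h1 : ∀ a ∈ G, ∀ b, Commute a b := by
      intro a ha b
      have hb : b ∈ Subgroup.closure G := hGtop ▸ Subgroup.mem_top b
      induction hb using Subgroup.closure_induction with
      | mem w hw => exact hGcomm a ha w hw
      | one => exact Commute.one_right a
      | mul u v _ _ hu hv => exact hu.mul_right hv
      | inv u _ hu => exact hu.inv_right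
    intro a b
    have ha : a ∈ Subgroup.closure G := hGtop ▸ Subgroup.mem_top a
    induction ha using Subgroup.closure_induction with
    | mem w hw => exact h1 w hw b
    | one => exact Commute.one_left b
    | mul u v _ _ hu hv => exact hu.mul_left hv
    | inv u _ hu => exact hu.inv_left
  have hexp : ∀ a : ↥P ⧸ N.subgroupOf P, a ^ 2 = 1 := by
    intro a
    have ha : a ∈ Subgroup.closure G := hGtop ▸ Subgroup.mem_top a
    induction ha using Subgroup.closure_induction with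
    | mem w hw =>
      obtain ⟨p, hp, rfl⟩ := hw
      rw [← map_pow]
      refine hmem _ ?_
      rw [Subgroup.coe_pow, sq]
      rcases hp with hp | ⟨i, hi⟩
      · refine ⟨mul_mem hp hp, funext fun k => ?_⟩
        show f _ (Sum.inr k) = 0
        rw [hf _ hp _ hp, Pi.add_apply, CharTwo.add_self_eq_zero]
      · rw [← hi]; exact ⟨hsq i, hqsq i⟩
    | one => exact one_pow _
    | mul u v _ _ hu hv => rw [(hcomm u v).mul_pow, hu, hv, one_mul]
    | inv u _ hu => rw [inv_pow, hu, inv_one]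
  have hle := h4 P (N.subgroupOf P) ⊤ ⟨⟨fun a b => Subtype.ext (hcomm a.1 b.1).eq⟩⟩ (fun a _ => hexp a)
  rw [Subgroup.card_top] at hle
  -- thirty-two classes
  choose w hwU hwf using fun v : Fin 2 → F₂ => hsurj (Sum.elim 0 v)
  let z : (Fin 2 → F₂) × (Fin 2 × Fin 2 × Fin 2) → P := fun t =>
    ⟨w t.1 * (x 0 ^ (t.2.1 : ℕ) * x 1 ^ (t.2.2.1 : ℕ) * x 2 ^ (t.2.2.2 : ℕ)),
      mul_mem (Subgroup.subset_closure (Or.inl (hwU _)))
        (mul_mem (mul_mem (pow_mem (hxP 0) _)
          (pow_mem (hxP 1) _))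
          (pow_mem (hxP 2) _))⟩
  have hpow : ∀ (i : Fin 3) (e : Fin 2), M (x i ^ (e : ℕ)) = uni ((e : ℕ) • sv i) := by
    intro i e
    fin_cases e
    · simp [uni_zero]
    · simp [hx]
  have hMz : ∀ t, M (z t : X) = uni ((t.2.1 : ℕ) • sv 0 + (t.2.2.1 : ℕ) • sv 1 + (t.2.2.2 : ℕ) • sv 2) := by
    intro t
    show M (w t.1 * _) = _
    rw [map_mul, (hker _).2 (hwU _), one_mul, map_mul, map_mul, hpow, hpow, hpow, uni_mul, uni_mul]
  have hinj : Function.Injective fun t => π (z t) := by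
    rintro ⟨v, e⟩ ⟨v', e'⟩ h
    have h' := Subgroup.mem_subgroupOf.1 (QuotientGroup.eq.1 h)
    rw [Subgroup.coe_mul, Subgroup.coe_inv] at h'
    have he : M (z (v, e) : X) = M (z (v', e') : X) := by
      have h1 := (hker _).2 h'.1
      calc M (z (v, e) : X) = M (z (v, e) : X) * M ((z (v, e) : X)⁻¹ * (z (v', e') : X)) := by rw [h1, mul_one]
        _ = _ := by rw [← map_mul, mul_inv_cancel_left]
    rw [hMz, hMz] at he
    obtain rfl : e = e' := sv_independent _ _ (uni_inj he)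
    set t := x 0 ^ (e.1 : ℕ) * x 1 ^ (e.2.1 : ℕ) * x 2 ^ (e.2.2 : ℕ) with ht
    have htP : t⁻¹ ∈ P := inv_mem (mul_mem (mul_mem (pow_mem (hxP 0) _)
          (pow_mem (hxP 1) _))
          (pow_mem (hxP 2) _))
    have hu : (w v)⁻¹ * w v' ∈ U := mul_mem (inv_mem (hwU v)) (hwU v')
    have h0 : q ((w v)⁻¹ * w v') = 0 := by
      rw [← hqconj t⁻¹ htP _ hu,
        show t⁻¹ * ((w v)⁻¹ * w v') * t⁻¹⁻¹ = (w v * t)⁻¹ * (w v' * t) by group]
      exact h'.2
    obtain rfl : v = v' := funext fun k => by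
      have := congrFun h0 k
      simp only [hq, Function.comp_apply, Pi.zero_apply, hf _ (inv_mem (hwU v)) _ (hwU v'), hfinv _ (hwU v),
        Pi.add_apply, hwf, Sum.elim_inr] at this
      exact CharTwo.add_eq_zero.1 this
    rfl
  have h32 := Nat.card_le_card_of_injective _ hinj
  rw [Nat.card_prod, Nat.card_fun, Nat.card_prod, Nat.card_prod, Nat.card_zmod, Nat.card_fin] at h32
  omega

theorem card_gl_four : Nat.card (GL (Fin 4) F₂) = 20160 := by
  rw [Matrix.card_GL_field]
  rfl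

theorem card_alt_eight : Nat.card (alternatingGroup (Fin 8)) = 20160 := by
  have h2 := (alternatingGroup (Fin 8)).card_mul_index
  rw [alternatingGroup.index_eq_two, Nat.card_perm, Nat.card_fin,
    show Nat.factorial 8 = 40320 from rfl] at h2
  omega

/-- `GL(4,2)` is the alternating group of degree eight. -/
theorem exists_gl_four_equiv : Nonempty (GL (Fin 4) F₂ ≃* alternatingGroup (Fin 8)) := by
  obtain ⟨f, hf⟩ := CfsgLib.Invol.A8.exists_injective_gl_four_two
  exact ⟨MulEquiv.ofBijective f ((Nat.bijective_iff_injective_and_card f).2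
    ⟨hf, by rw [card_gl_four, card_alt_eight]⟩)⟩

theorem exists_gl_blocks_equiv : Nonempty (GL I₄ F₂ ≃* alternatingGroup (Fin 8)) := by
  obtain ⟨e⟩ := exists_gl_four_equiv
  exact ⟨(Units.mapEquiv (Matrix.reindexAlgEquiv F₂ F₂ (finSumFinEquiv : I₄ ≃ Fin 4)).toMulEquiv).trans e⟩

theorem uni_mem_symplectic : ∀ i, uni (sv i) ∈ Matrix.symplecticGroup (Fin 2) F₂ := by
  intro i
  rw [SymplecticGroup.mem_iff]
  revert i
  decide +kernel

/-- With a symmetric group of degree six or the full linear group on top, the sectional rank is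
at least five. -/
theorem false_of_top (hc : Cfsg.IsPConstrained 2 X) (hO : Cfsg.oddCore X = ⊥)
    (h4 : Cfsg.SectionalPRankLE 2 4 X)
    (h : Nonempty (X ⧸ Cfsg.pCore 2 X ≃* Equiv.Perm (Fin 6)) ∨ Nat.card (X ⧸ Cfsg.pCore 2 X) = 20160) :
    False := by
  haveI : Fact (Nat.Prime 2) := ⟨Nat.prime_two⟩
  set U := Cfsg.pCore 2 X with hU
  haveI hUn : U.Normal := CfsgLib.Coprime.pCore_normal' (G := X) 2
  have hU2 : IsPGroup 2 U := CfsgLib.Coprime.pCore_isPGroup 2
  have hcl := (CfsgLib.Invol.pClean_of_pCons (CfsgLib.Invol.isPConstrained_iff.1 hc) hO).centralizer_le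
  haveI : (frattini U).Characteristic := frattini_characteristic
  letI : CommGroup (↥U ⧸ frattini U) :=
    { (inferInstance : Group (↥U ⧸ frattini U)) with
      mul_comm := fun a b => by
        induction a using QuotientGroup.induction_on with
        | H a => induction b using QuotientGroup.induction_on with
          | H b =>
            rw [← QuotientGroup.mk_mul, ← QuotientGroup.mk_mul, QuotientGroup.eq]
            have h := CfsgLib.Coprime.commutator_le_frattini hU2
            refine h ?_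
            rw [show (a * b)⁻¹ * (b * a) = ⁅b⁻¹, a⁻¹⁆ by rw [commutatorElement_def]; group, _root_.commutator_def]
            exact Subgroup.commutator_mem_commutator (Subgroup.mem_top _) (Subgroup.mem_top _) }
  have hexp : ∀ v : ↥U ⧸ frattini U, v ^ 2 = 1 := fun v => by
    induction v using QuotientGroup.induction_on with
    | H a => rw [← QuotientGroup.mk_pow, QuotientGroup.eq_one_iff]; exact CfsgLib.Coprime.pow_mem_frattini hU2 a
  have hchar : ∀ a : MulAut ↥U, (frattini U).map (a : ↥U →* ↥U) = frattini U :=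
    fun a => Subgroup.characteristic_iff_map_eq.1 frattini_characteristic a
  let ψ : MulAut ↥U →* MulAut (↥U ⧸ frattini U) :=
    { toFun := fun a => QuotientGroup.congr _ _ a (hchar a)
      map_one' := MulEquiv.ext fun v => by induction v using QuotientGroup.induction_on; rfl
      map_mul' := fun a b => MulEquiv.ext fun v => by induction v using QuotientGroup.induction_on; rfl }
  set Φ := ψ.comp (MulAut.conjNormal (H := U)) with hΦ
  have hmem : ∀ x : X, x ∈ Φ.ker ↔ ∀ u : ↥U, (MulAut.conjNormal x u)⁻¹ * u ∈ frattini U := by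
    intro x
    rw [MonoidHom.mem_ker]
    refine ⟨fun h u => ?_, fun h => MulEquiv.ext fun v => ?_⟩
    · rw [← QuotientGroup.eq]
      exact DFunLike.congr_fun h (QuotientGroup.mk u : ↥U ⧸ frattini U)
    · induction v using QuotientGroup.induction_on with
      | H u => exact QuotientGroup.eq.2 (h u)
  have hkerΦ : Φ.ker = U := by
    refine le_antisymm (CfsgLib.Coprime.le_pCore (CfsgLib.Invol.isPGroup_of_coprime_trivial _ fun y hy hco => ?_)) ?_
    · have hle : Subgroup.zpowers y ≤ Subgroup.centralizer (U : Set X) := by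
        refine CfsgLib.Coprime.le_centralizer_of_trivial_on_frattini_quotient ?_ ?_ ?_
        · rw [Subgroup.normalizer_eq_top]; exact le_top
        · obtain ⟨k, hk⟩ := IsPGroup.iff_card.1 (hU2.to_subgroup (frattini U))
          rw [Nat.card_zpowers, hk]
          exact hco.pow_right k
        · intro a ha u hu
          have h1 := (hmem a).1 (Subgroup.zpowers_le.2 hy ha) ⟨u⁻¹, inv_mem hu⟩
          refine ⟨_, h1, ?_⟩
          simp only [Subgroup.coe_subtype, Subgroup.coe_mul, Subgroup.coe_inv, MulAut.conjNormal_apply]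
          group
      exact CfsgLib.Invol.eq_one_of_coprime_of_isPGroup hU2 (hcl (hle (Subgroup.mem_zpowers y))) hco
    · intro x hx
      refine (hmem x).2 fun u => ?_
      have h := CfsgLib.Coprime.commutator_le_frattini hU2
      refine h ?_
      have e : MulAut.conjNormal x u = ⟨x, hx⟩ * u * (⟨x, hx⟩ : ↥U)⁻¹ :=
        Subtype.ext (MulAut.conjNormal_apply x u)
      rw [e, show (⟨x, hx⟩ * u * (⟨x, hx⟩ : ↥U)⁻¹)⁻¹ * u = ⁅(⟨x, hx⟩ : ↥U), u⁻¹⁆ by
        rw [commutatorElement_def]; group, _root_.commutator_def]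
      exact Subgroup.commutator_mem_commutator (Subgroup.mem_top _) (Subgroup.mem_top _)
  -- coordinates
  letI : Module F₂ (Additive (↥U ⧸ frattini U)) :=
    AddCommGroup.zmodModule (n := 2) fun v => hexp (Additive.toMul v)
  haveI : Finite (Additive (↥U ⧸ frattini U)) := inferInstanceAs (Finite (↥U ⧸ frattini U))
  obtain ⟨d, hd⟩ : ∃ d, d = Module.finrank F₂ (Additive (↥U ⧸ frattini U)) := ⟨_, rfl⟩
  have hbig : 720 ≤ Nat.card (X ⧸ U) := by
    rcases h with h | h
    · obtain ⟨e⟩ := h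
      rw [Nat.card_congr e.toEquiv, Nat.card_perm, Nat.card_fin]; exact le_of_eq rfl
    · exact le_of_le_of_eq (by norm_num) h.symm
  have hinjΦ : Function.Injective (QuotientGroup.lift U Φ hkerΦ.ge) := by
    rw [injective_iff_map_eq_one]
    intro v hv
    induction v using QuotientGroup.induction_on with
    | H x => exact (QuotientGroup.eq_one_iff x).2 (show x ∈ U by rw [← hkerΦ]; exact MonoidHom.mem_ker.2 hv)
  have hcardV : Nat.card (↥U ⧸ frattini U) = 2 ^ d := by
    have h1 := Module.natCard_eq_pow_finrank (K := F₂) (V := Additive (↥U ⧸ frattini U))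
    rwa [Nat.card_zmod, ← hd] at h1
  have hd4 : d = 4 := by
    have hle : d ≤ 4 := by
      set N := (frattini U).subgroupOf (⊤ : Subgroup U) with hN
      have h5 := h4 U (frattini U) ⊤ ⟨⟨fun a b => Subtype.ext (mul_comm a.1 b.1)⟩⟩ (fun a _ => hexp a)
      rw [Subgroup.card_top, hcardV] at h5
      exact (Nat.pow_le_pow_iff_right (le_refl 2)).1 h5
    by_contra hne
    -- an automorphism is determined on a basis
    let b := (Module.finBasis F₂ (Additive (↥U ⧸ frattini U))).reindex (finCongr hd.symm)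
    have hinjb : Function.Injective fun φ : MulAut (↥U ⧸ frattini U) =>
        fun i : Fin d => φ (Additive.toMul (b i)) := by
      intro φ χ he
      let Lφ := AddMonoidHom.toZModLinearMap 2 (MonoidHom.toAdditive φ.toMonoidHom)
      let Lχ := AddMonoidHom.toZModLinearMap 2 (MonoidHom.toAdditive χ.toMonoidHom)
      have hL : Lφ = Lχ := b.ext fun i => congrArg Additive.ofMul (congrFun he i)
      exact MulEquiv.ext fun v => congrArg Additive.toMul (LinearMap.congr_fun hL (Additive.ofMul v))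
    have h1 := (Nat.card_le_card_of_injective _ hinjΦ).trans (Nat.card_le_card_of_injective _ hinjb)
    rw [Nat.card_fun, Nat.card_fin, hcardV] at h1
    have h2 : (2 ^ d) ^ d ≤ (2 ^ 3) ^ 3 :=
      (Nat.pow_le_pow_left (Nat.pow_le_pow_right (by norm_num) (by omega)) d).trans
        (Nat.pow_le_pow_right (by norm_num) (by omega))
    norm_num at h2
    omega
  let L : Additive (↥U ⧸ frattini U) ≃ₗ[F₂] (I₄ → F₂) := LinearEquiv.ofFinrankEq _ _ (by
    rw [← hd, hd4, Module.finrank_pi]; rfl)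
  let lin : MulAut (↥U ⧸ frattini U) →* (Additive (↥U ⧸ frattini U) →ₗ[F₂] Additive (↥U ⧸ frattini U)) :=
    { toFun := fun a => AddMonoidHom.toZModLinearMap 2 (MonoidHom.toAdditive a.toMonoidHom)
      map_one' := by ext; rfl
      map_mul' := fun a b => by ext; rfl }
  let MX : X →* GL I₄ F₂ :=
    (((LinearMap.toMatrixAlgEquiv'.toMonoidHom).comp ((L.conjRingEquiv.toMonoidHom).comp lin)).comp Φ).toHomUnits
  have hMX : ∀ x v, (MX x : Matrix I₄ I₄ F₂) *ᵥ L v = L (lin (Φ x) v) := by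
    intro x v
    show LinearMap.toMatrixAlgEquiv' (L.conjRingEquiv (lin (Φ x))) *ᵥ L v = _
    rw [← Matrix.toLinAlgEquiv'_apply, Matrix.toLinAlgEquiv'_toMatrixAlgEquiv']
    simp [LinearEquiv.conjRingEquiv]
  have hkerM : MX.ker = U := by
    rw [← hkerΦ]
    ext x
    rw [MonoidHom.mem_ker, MonoidHom.mem_ker]
    refine ⟨fun hx => MulEquiv.ext fun v => ?_, fun hx => Units.ext ?_⟩
    · have := hMX x (Additive.ofMul v)
      rw [hx, Units.val_one, Matrix.one_mulVec] at this
      exact congrArg Additive.toMul (L.injective this.symm)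
    · show LinearMap.toMatrixAlgEquiv' (L.conjRingEquiv (lin (Φ x))) = 1
      rw [hx, map_one, map_one, map_one]
  obtain ⟨e⟩ := exists_gl_blocks_equiv
  -- a frame in which the three transvections are in the image
  obtain ⟨g, hg⟩ : ∃ g : GL I₄ F₂, ∀ i, ∃ x : X,
      (MX x : Matrix I₄ I₄ F₂) = (g : Matrix I₄ I₄ F₂) * uni (sv i) * ((g⁻¹ : GL I₄ F₂) : Matrix I₄ I₄ F₂) := by
    let σ : Matrix.symplecticGroup (Fin 2) F₂ →* GL I₄ F₂ :=
      (Submonoid.subtype (Matrix.symplecticGroup (Fin 2) F₂)).toHomUnits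
    have hσ : Function.Injective σ := fun a b h => Subtype.ext (congrArg Units.val h)
    let q : X ⧸ U ≃* MX.range :=
      (QuotientGroup.quotientMulEquivOfEq hkerM.symm).trans (QuotientGroup.quotientKerEquivRange MX)
    rcases h with h | h
    · obtain ⟨e6⟩ := h
      obtain ⟨s⟩ := Cfsg.Agent.S0247.result (F := F₂) (ZMod.card 2)
      obtain ⟨g, hg⟩ := exists_conj
        (((MonoidHom.ofInjective hσ).trans (σ.range.equivMapOfInjective e.toMonoidHom e.injective)).symm.trans s)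
        (((q.trans (MX.range.equivMapOfInjective e.toMonoidHom e.injective))).symm.trans e6)
      refine ⟨e.symm g, fun i => ?_⟩
      obtain ⟨y, ⟨x, rfl⟩, hy⟩ := hg (e (σ ⟨_, uni_mem_symplectic i⟩)) ⟨_, ⟨_, rfl⟩, rfl⟩
      refine ⟨x, ?_⟩
      have := congrArg e.symm hy
      simp only [MulEquiv.coe_toMonoidHom, map_mul, map_inv, MulEquiv.symm_apply_apply] at this
      rw [this]
      rfl
    · refine ⟨1, fun i => ?_⟩
      have htop : MX.range = ⊤ := Subgroup.eq_top_of_card_eq _ (by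
        rw [← Nat.card_congr q.toEquiv, h, Nat.card_congr e.toEquiv, card_alt_eight])
      obtain ⟨x, hx⟩ : σ ⟨_, uni_mem_symplectic i⟩ ∈ MX.range := htop ▸ Subgroup.mem_top _
      exact ⟨x, by rw [hx]; simp [σ]⟩
  -- apply the section lemma in that frame
  let gi : Matrix I₄ I₄ F₂ := ((g⁻¹ : GL I₄ F₂) : Matrix I₄ I₄ F₂)
  let M' : X →* Matrix I₄ I₄ F₂ := (Units.coeHom _).comp ((MulAut.conj g⁻¹).toMonoidHom.comp MX)
  let f : X → I₄ → F₂ := fun u => if hu : u ∈ U then gi *ᵥ L (Additive.ofMul (QuotientGroup.mk ⟨u, hu⟩)) else 0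
  have hM' : ∀ x, M' x = gi * (MX x : Matrix I₄ I₄ F₂) * (g : Matrix I₄ I₄ F₂) := fun x => by
    show ((g⁻¹ * MX x * g⁻¹⁻¹ : GL I₄ F₂) : Matrix I₄ I₄ F₂) = _
    rw [inv_inv]; rfl
  refine false_of_transvections h4 U f ?_ ?_ M' ?_ ?_ ?_
  · intro a ha b hb
    simp only [f, dif_pos ha, dif_pos hb, dif_pos (mul_mem ha hb)]
    rw [← Matrix.mulVec_add, ← map_add]
    try rfl
  · intro v
    obtain ⟨a, ha⟩ := QuotientGroup.mk_surjective (Additive.toMul (L.symm ((g : Matrix I₄ I₄ F₂) *ᵥ v)))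
    refine ⟨a, a.2, ?_⟩
    simp only [f, dif_pos a.2, Subtype.coe_eta]
    rw [ha, ofMul_toMul, LinearEquiv.apply_symm_apply, Matrix.mulVec_mulVec,
      show gi * (g : Matrix I₄ I₄ F₂) = 1 from g.inv_mul, Matrix.one_mulVec]
  · intro x
    rw [show x ∈ U ↔ MX x = 1 by rw [← MonoidHom.mem_ker, hkerM]]
    show ((MulAut.conj g⁻¹ (MX x) : GL I₄ F₂) : Matrix I₄ I₄ F₂) = 1 ↔ _
    rw [Units.val_eq_one, MulEquiv.map_eq_one_iff]
  · intro x u hu
    have hc' : x * u * x⁻¹ ∈ U := hUn.conj_mem u hu x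
    simp only [f, dif_pos hu, dif_pos hc']
    rw [hM', Matrix.mulVec_mulVec, mul_assoc _ (g : Matrix I₄ I₄ F₂) gi,
      show (g : Matrix I₄ I₄ F₂) * gi = 1 from g.mul_inv, mul_one, ← Matrix.mulVec_mulVec, hMX]
    congr 2
  · intro i
    obtain ⟨x, hx⟩ := hg i
    refine ⟨x, ?_⟩
    rw [hM', hx, ← mul_assoc, ← mul_assoc, show gi * (g : Matrix I₄ I₄ F₂) = 1 from g.inv_mul, one_mul,
      mul_assoc, show gi * (g : Matrix I₄ I₄ F₂) = 1 from g.inv_mul, mul_one]

end CfsgLib.Invol.RadicalFour
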